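import Mathlib

set_option autoImplicit false
open Set Topology

namespace EGA43QH

universe u v

variable {X : Type u} {Y : Type v} [TopologicalSpace X] [TopologicalSpace Y]

/-- finite union of locally closed subsets -/
def FLC (Z : Set Y) : Prop := ∃ T : Set (Set Y), T.Finite ∧ (∀ t ∈ T, IsLocallyClosed t) ∧ Z = ⋃₀ T

/-- locally quasi-constructible -/
def LocFLC (Z : Set Y) : Prop := ∀ y : Y, ∃ U : Set Y, IsOpen U ∧ y ∈ U ∧ FLC (U ∩ Z)

/-- quasi-homeomorphism -/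
structure IsQH (f : X → Y) : Prop where
  inj : ∀ U₁ U₂ : Set Y, IsOpen U₁ → IsOpen U₂ → f ⁻¹' U₁ = f ⁻¹' U₂ → U₁ = U₂
  surj : ∀ V : Set X, IsOpen V → ∃ U : Set Y, IsOpen U ∧ f ⁻¹' U = V

theorem IsQH.of_bijective {f : X → Y} (hf : Continuous f)
    (hq : Function.Bijective (fun U : TopologicalSpace.Opens Y =>
      (⟨f ⁻¹' (U : Set Y), U.isOpen.preimage hf⟩ : TopologicalSpace.Opens X))) : IsQH f := by
  refine ⟨fun U₁ U₂ h₁ h₂ h => ?_, fun V hV => ?_⟩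
  · have := @hq.1 ⟨U₁, h₁⟩ ⟨U₂, h₂⟩ (TopologicalSpace.Opens.ext h)
    exact congrArg SetLike.coe this
  · obtain ⟨U, hU⟩ := hq.2 ⟨V, hV⟩
    exact ⟨U, U.isOpen, congrArg SetLike.coe hU⟩

section FLC

variable {Z Z₁ Z₂ : Set Y}

theorem FLC.of_lc (h : IsLocallyClosed Z) : FLC Z :=
  ⟨{Z}, finite_singleton Z, by simpa using h, by simp⟩

theorem FLC.empty : FLC (∅ : Set Y) := ⟨∅, finite_empty, by simp, by simp⟩

theorem FLC.union (h₁ : FLC Z₁) (h₂ : FLC Z₂) : FLC (Z₁ ∪ Z₂) := by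
  obtain ⟨T₁, f₁, l₁, rfl⟩ := h₁
  obtain ⟨T₂, f₂, l₂, rfl⟩ := h₂
  exact ⟨T₁ ∪ T₂, f₁.union f₂, fun t ht => ht.elim (l₁ t) (l₂ t), (sUnion_union T₁ T₂).symm⟩

theorem FLC.inter (h₁ : FLC Z₁) (h₂ : FLC Z₂) : FLC (Z₁ ∩ Z₂) := by
  obtain ⟨T₁, f₁, l₁, rfl⟩ := h₁
  obtain ⟨T₂, f₂, l₂, rfl⟩ := h₂
  refine ⟨(fun p : Set Y × Set Y => p.1 ∩ p.2) '' (T₁ ×ˢ T₂), (f₁.prod f₂).image _, ?_, ?_⟩
  · rintro _ ⟨⟨a, b⟩, ⟨ha, hb⟩, rfl⟩
    exact (l₁ a ha).inter (l₂ b hb)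
  · rw [sUnion_inter_sUnion, sUnion_image]

theorem FLC.compl_lc (h : IsLocallyClosed Z) : FLC Zᶜ := by
  obtain ⟨U, C, hU, hC, rfl⟩ := h
  rw [compl_inter]
  exact (FLC.of_lc hU.isClosed_compl.isLocallyClosed).union (FLC.of_lc hC.isOpen_compl.isLocallyClosed)

theorem FLC.compl (h : FLC Z) : FLC Zᶜ := by
  obtain ⟨T, hf, hl, rfl⟩ := h
  induction T, hf using Set.Finite.induction_on with
  | empty => simpa using FLC.of_lc isOpen_univ.isLocallyClosed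
  | @insert t T _ _ ih =>
    rw [sUnion_insert, compl_union]
    exact (FLC.compl_lc (hl t (mem_insert t T))).inter (ih fun s hs => hl s (mem_insert_of_mem t hs))

theorem FLC.diff (h₁ : FLC Z₁) (h₂ : FLC Z₂) : FLC (Z₁ \ Z₂) := h₁.inter h₂.compl

theorem FLC.preimage {f : X → Y} (hf : Continuous f) (h : FLC Z) : FLC (f ⁻¹' Z) := by
  obtain ⟨T, hfin, hl, rfl⟩ := h
  refine ⟨(f ⁻¹' ·) '' T, hfin.image _, ?_, ?_⟩
  · rintro _ ⟨t, ht, rfl⟩
    exact (hl t ht).preimage hf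
  · rw [preimage_sUnion, sUnion_image]

theorem FLC.locFLC (h : FLC Z) : LocFLC Z :=
  fun _ => ⟨univ, isOpen_univ, mem_univ _, by rwa [univ_inter]⟩

theorem FLC.of_isConstructible (h : IsConstructible Z) : FLC Z := by
  induction h using IsConstructible.empty_union_induction with
  | open_retrocompact U hU _ => exact FLC.of_lc hU.isLocallyClosed
  | union s _ t _ hs ht => exact hs.union ht
  | compl s _ hs => exact hs.compl

theorem LocFLC.of_open (h : IsOpen Z) : LocFLC Z := (FLC.of_lc h.isLocallyClosed).locFLC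

theorem LocFLC.inter (h₁ : LocFLC Z₁) (h₂ : LocFLC Z₂) : LocFLC (Z₁ ∩ Z₂) := by
  intro y
  obtain ⟨U₁, o₁, m₁, e₁⟩ := h₁ y
  obtain ⟨U₂, o₂, m₂, e₂⟩ := h₂ y
  refine ⟨U₁ ∩ U₂, o₁.inter o₂, ⟨m₁, m₂⟩, ?_⟩
  have := e₁.inter e₂
  rwa [inter_inter_inter_comm] at this

theorem flc_subspace_image {V : Set Y} (hV : IsOpen V) {W : Set V} (h : FLC W) : FLC (Subtype.val '' W) := by
  obtain ⟨T, hfin, hl, rfl⟩ := h
  refine ⟨(Subtype.val '' ·) '' T, hfin.image _, ?_, ?_⟩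
  · rintro _ ⟨t, ht, rfl⟩
    exact (hl t ht).image IsInducing.subtypeVal (by simpa using hV.isLocallyClosed)
  · rw [image_sUnion]

theorem subspace_flc_iff {V : Set Y} (hV : IsOpen V) : FLC (Subtype.val ⁻¹' Z : Set V) ↔ FLC (V ∩ Z) := by
  constructor
  · intro h
    have := flc_subspace_image hV h
    rwa [Subtype.image_preimage_coe] at this
  · intro h
    have := h.preimage (f := (Subtype.val : V → Y)) continuous_subtype_val
    rwa [show (Subtype.val ⁻¹' (V ∩ Z) : Set V) = Subtype.val ⁻¹' Z by ext v; simp] at this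

end FLC

namespace IsQH

variable {f : X → Y} (hq : IsQH f)
include hq

theorem lc_nonempty {Z : Set Y} (hZ : IsLocallyClosed Z) (hne : Z.Nonempty) : (f ⁻¹' Z).Nonempty := by
  obtain ⟨U, C, hU, hC, rfl⟩ := hZ
  by_contra he
  rw [not_nonempty_iff_eq_empty] at he
  have h : U ∪ Cᶜ = Cᶜ := hq.inj _ _ (hU.union hC.isOpen_compl) hC.isOpen_compl (by
    ext x
    simp only [mem_preimage, mem_union, mem_compl_iff, or_iff_right_iff_imp]
    intro hxU hxC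
    exact (eq_empty_iff_forall_notMem.1 he x) ⟨hxU, hxC⟩)
  obtain ⟨y, hyU, hyC⟩ := hne
  exact ((Set.ext_iff.1 h y).1 (Or.inl hyU)) hyC

theorem subset_of_preimage_subset {Z₁ Z₂ : Set Y} (h₁ : LocFLC Z₁) (h₂ : LocFLC Z₂)
    (h : f ⁻¹' Z₁ ⊆ f ⁻¹' Z₂) : Z₁ ⊆ Z₂ := by
  intro y hy
  by_contra hy2
  obtain ⟨U₁, o₁, m₁, e₁⟩ := h₁ y
  obtain ⟨U₂, o₂, m₂, e₂⟩ := h₂ y
  obtain ⟨T, -, hl, hT⟩ := (e₁.inter (FLC.of_lc o₂.isLocallyClosed)).diff e₂
  have hyT : y ∈ ⋃₀ T := hT ▸ ⟨⟨⟨m₁, hy⟩, m₂⟩, fun h' => hy2 h'.2⟩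
  obtain ⟨t, htT, hyt⟩ := hyT
  obtain ⟨x, hx⟩ := hq.lc_nonempty (hl t htT) ⟨y, hyt⟩
  have hx' : f x ∈ ((U₁ ∩ Z₁) ∩ U₂) \ (U₂ ∩ Z₂) := hT ▸ ⟨t, htT, hx⟩
  exact hx'.2 ⟨hx'.1.2, h hx'.1.1.2⟩

theorem eq_of_preimage_eq {Z₁ Z₂ : Set Y} (h₁ : LocFLC Z₁) (h₂ : LocFLC Z₂)
    (h : f ⁻¹' Z₁ = f ⁻¹' Z₂) : Z₁ = Z₂ :=
  (hq.subset_of_preimage_subset h₁ h₂ h.le).antisymm (hq.subset_of_preimage_subset h₂ h₁ h.ge)

theorem exists_lc {W : Set X} (hW : IsLocallyClosed W) : ∃ Z : Set Y, IsLocallyClosed Z ∧ f ⁻¹' Z = W := by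
  obtain ⟨V, D, hV, hD, rfl⟩ := hW
  obtain ⟨U, hU, rfl⟩ := hq.surj V hV
  obtain ⟨O, hO, hO'⟩ := hq.surj Dᶜ hD.isOpen_compl
  exact ⟨U ∩ Oᶜ, hU.isLocallyClosed.inter hO.isClosed_compl.isLocallyClosed, by
    rw [preimage_inter, preimage_compl, hO', compl_compl]⟩

theorem exists_flc {W : Set X} (hW : FLC W) : ∃ Z : Set Y, FLC Z ∧ f ⁻¹' Z = W := by
  obtain ⟨T, hfin, hl, rfl⟩ := hW
  choose! g hg hg' using fun t (ht : t ∈ T) => hq.exists_lc (hl t ht)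
  refine ⟨⋃₀ (g '' T), ⟨g '' T, hfin.image g, ?_, rfl⟩, ?_⟩
  · rintro _ ⟨t, ht, rfl⟩
    exact hg t ht
  · rw [preimage_sUnion, biUnion_image, sUnion_eq_biUnion]
    exact iUnion₂_congr hg'

theorem exists_nhd {p : Set Y → Prop} (hV : ∀ x : X, ∃ U : Set Y, IsOpen U ∧ f x ∈ U ∧ p U) (y : Y) :
    ∃ U : Set Y, IsOpen U ∧ y ∈ U ∧ p U := by
  let O := ⋃₀ {U : Set Y | IsOpen U ∧ p U}
  have hO : O = univ := hq.inj O univ (isOpen_sUnion fun U hU => hU.1) isOpen_univ (by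
    refine eq_univ_of_forall fun x => ?_
    obtain ⟨U, h1, h2, h3⟩ := hV x
    exact ⟨U, ⟨h1, h3⟩, h2⟩)
  obtain ⟨U, ⟨h1, h2⟩, h3⟩ := hO ▸ mem_univ y
  exact ⟨U, h1, h3, h2⟩

theorem isCompact_iff {Z : Set Y} (hf : Continuous f) (hZ : LocFLC Z) : IsCompact Z ↔ IsCompact (f ⁻¹' Z) := by
  constructor
  · intro h
    refine isCompact_of_finite_subcover fun {ι} V hV hcov => ?_
    choose U hU hUV using fun i => hq.surj (V i) (hV i)
    have hsub : Z ⊆ ⋃ i, U i := hq.subset_of_preimage_subset hZ (.of_open (isOpen_iUnion hU)) (by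
      simpa [preimage_iUnion, hUV] using hcov)
    obtain ⟨t, ht⟩ := h.elim_finite_subcover U hU hsub
    exact ⟨t, (preimage_mono ht).trans (by simp [preimage_iUnion, hUV])⟩
  · intro h
    refine isCompact_of_finite_subcover fun {ι} U hU hcov => ?_
    obtain ⟨t, ht⟩ := h.elim_finite_subcover (fun i => f ⁻¹' U i) (fun i => (hU i).preimage hf)
      ((preimage_mono hcov).trans preimage_iUnion.le)
    exact ⟨t, hq.subset_of_preimage_subset hZ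
      (.of_open (isOpen_biUnion fun i _ => hU i)) (by rw [preimage_iUnion₂]; exact ht)⟩

theorem noetherian_iff {Z : Set Y} (hf : Continuous f) (hZ : LocFLC Z) :
    TopologicalSpace.NoetherianSpace ↥Z ↔ TopologicalSpace.NoetherianSpace ↥(f ⁻¹' Z) := by
  rw [TopologicalSpace.noetherianSpace_iff_opens, TopologicalSpace.noetherianSpace_iff_opens]
  constructor
  · intro h W
    obtain ⟨V, hV, hVW⟩ := isOpen_induced_iff.1 W.isOpen
    obtain ⟨U, hU, rfl⟩ := hq.surj V hV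
    have h' := IsInducing.subtypeVal.isCompact_iff.1 (h ⟨Subtype.val ⁻¹' U, hU.preimage continuous_subtype_val⟩)
    rw [IsInducing.subtypeVal.isCompact_iff, ← hVW, Subtype.image_preimage_coe, ← preimage_inter]
    simp only [TopologicalSpace.Opens.coe_mk, Subtype.image_preimage_coe] at h'
    exact (hq.isCompact_iff hf (hZ.inter (.of_open hU))).1 h'
  · intro h W
    obtain ⟨U, hU, hUW⟩ := isOpen_induced_iff.1 W.isOpen
    rw [IsInducing.subtypeVal.isCompact_iff, ← hUW, Subtype.image_preimage_coe,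
      hq.isCompact_iff hf (hZ.inter (.of_open hU)), preimage_inter]
    have h' := IsInducing.subtypeVal.isCompact_iff.1
      (h ⟨Subtype.val ⁻¹' (f ⁻¹' U), (hU.preimage hf).preimage continuous_subtype_val⟩)
    simp only [TopologicalSpace.Opens.coe_mk, Subtype.image_preimage_coe] at h'
    exact h'

theorem restrict {Z : Set Y} (hZ : LocFLC Z) : IsQH (Z.restrictPreimage f) := by
  refine ⟨fun U₁ U₂ h₁ h₂ h => ?_, fun V hV => ?_⟩
  · obtain ⟨O₁, o₁, rfl⟩ := isOpen_induced_iff.1 h₁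
    obtain ⟨O₂, o₂, rfl⟩ := isOpen_induced_iff.1 h₂
    have he : Z ∩ O₁ = Z ∩ O₂ := hq.eq_of_preimage_eq (hZ.inter (.of_open o₁)) (hZ.inter (.of_open o₂)) (by
      ext x
      simp only [mem_preimage, mem_inter_iff]
      exact and_congr_right fun hx => Set.ext_iff.1 h ⟨x, hx⟩)
    exact (Subtype.preimage_val_eq_preimage_val_iff _ _ _).2 he
  · obtain ⟨O, hO, rfl⟩ := isOpen_induced_iff.1 hV
    obtain ⟨U, hU, rfl⟩ := hq.surj O hO
    exact ⟨Subtype.val ⁻¹' U, hU.preimage continuous_subtype_val, rfl⟩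

theorem retrocompact_iff {Z : Set Y} (hf : Continuous f) (hZ : LocFLC Z) :
    IsRetrocompact Z ↔ IsRetrocompact (f ⁻¹' Z) := by
  constructor
  · intro h V hVc hVo
    obtain ⟨U, hU, rfl⟩ := hq.surj V hVo
    rw [← preimage_inter]
    exact (hq.isCompact_iff hf (hZ.inter (.of_open hU))).1 (h ((hq.isCompact_iff hf (.of_open hU)).2 hVc) hU)
  · intro h U hUc hU
    rw [hq.isCompact_iff hf (hZ.inter (.of_open hU)), preimage_inter]
    exact h ((hq.isCompact_iff hf (.of_open hU)).1 hUc) (hU.preimage hf)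

theorem constructible_preimage {Z : Set Y} (hf : Continuous f) (hZ : IsConstructible Z) :
    IsConstructible (f ⁻¹' Z) :=
  hZ.preimage hf fun _ ho hr => (hq.retrocompact_iff hf (.of_open ho)).1 hr

theorem exists_constructible {W : Set X} (hf : Continuous f) (hW : IsConstructible W) :
    ∃ Z : Set Y, IsConstructible Z ∧ f ⁻¹' Z = W := by
  induction hW using IsConstructible.empty_union_induction with
  | open_retrocompact V hV hVc =>
    obtain ⟨U, hU, rfl⟩ := hq.surj V hV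
    exact ⟨U, BooleanSubalgebra.subset_closure ⟨hU, (hq.retrocompact_iff hf (.of_open hU)).2 hVc⟩, rfl⟩
  | union s _ t _ hs ht =>
    obtain ⟨a, ha, rfl⟩ := hs
    obtain ⟨b, hb, rfl⟩ := ht
    exact ⟨a ∪ b, ha.union hb, preimage_union⟩
  | compl s _ hs =>
    obtain ⟨a, ha, rfl⟩ := hs
    exact ⟨aᶜ, ha.compl, preimage_compl⟩

theorem locFLC_of_glue {W : Set X} (hf : Continuous f)
    (P : (U : Set Y) → Set ↥U → Prop) (hP : ∀ (U : Set Y) (C : Set ↥U), P U C → FLC C)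
    (h : ∀ x : X, ∃ U : Set Y, IsOpen U ∧ f x ∈ U ∧ ∃ C : Set U, P U C ∧
      ∀ z : X, ∀ hz : f z ∈ U, z ∈ W ↔ (⟨f z, hz⟩ : U) ∈ C) :
    ∃ Z : Set Y, f ⁻¹' Z = W ∧ ∀ y : Y, ∃ U : Set Y, IsOpen U ∧ y ∈ U ∧ P U (Subtype.val ⁻¹' Z) := by
  let G : Set (Set Y) := {U | IsOpen U ∧ ∃ C : Set U, P U C ∧ ∀ z : X, ∀ hz : f z ∈ U, z ∈ W ↔ (⟨f z, hz⟩ : U) ∈ C}
  choose C hC hCW using fun (U : G) => U.2.2
  let Z : Set Y := ⋃ U : G, Subtype.val '' C U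
  have key : ∀ U : G, (Subtype.val ⁻¹' Z : Set U.1) = C U := by
    intro U
    refine Subset.antisymm ?_ fun y hy => mem_iUnion.2 ⟨U, y, hy, rfl⟩
    intro y hy
    obtain ⟨U', y', hy', he⟩ := mem_iUnion.1 hy
    have hAB : Subtype.val '' C U' ∩ U.1 ⊆ Subtype.val '' C U := by
      refine hq.subset_of_preimage_subset ((flc_subspace_image U'.2.1 (hP _ _ (hC U'))).inter
        (FLC.of_lc U.2.1.isLocallyClosed)).locFLC (flc_subspace_image U.2.1 (hP _ _ (hC U))).locFLC ?_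
      rintro z ⟨⟨w, hw, hwz⟩, hzU⟩
      have hzU' : f z ∈ U'.1 := hwz ▸ w.2
      have : z ∈ W := (hCW U' z hzU').2 ((Subtype.ext hwz.symm : (⟨f z, hzU'⟩ : U'.1) = w) ▸ hw)
      exact ⟨⟨f z, hzU⟩, (hCW U z hzU).1 this, rfl⟩
    obtain ⟨w, hw, hwy⟩ := hAB (show (y : Y) ∈ _ from ⟨⟨y', hy', he⟩, y.2⟩)
    exact (Subtype.ext hwy.symm : y = w) ▸ hw
  refine ⟨Z, ?_, fun y => ?_⟩
  · ext z
    obtain ⟨U, hU, hzU, hex⟩ := h z
    rw [hCW ⟨U, hU, hex⟩ z hzU, ← key ⟨U, hU, hex⟩]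
    rfl
  · refine hq.exists_nhd (p := fun U => P U (Subtype.val ⁻¹' Z)) (fun x => ?_) y
    obtain ⟨U, hU, hxU, hex⟩ := h x
    exact ⟨U, hU, hxU, (key ⟨U, hU, hex⟩).symm ▸ hC ⟨U, hU, hex⟩⟩

end IsQH

end EGA43QH
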